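import Cfsg.Agent.H6.DCE5
import Cfsg.Agent.H6.J4.N.Q.Main

set_option autoImplicit false
set_option maxRecDepth 100000
set_option Elab.async false

namespace Cfsg.H6.J4.D1

def c0 : Clm := ⟨0, 0, false, [], [1], 0, [], []⟩
def c1 : Clm := ⟨0, 0, false, [], [2], 0, [], []⟩
def c2 : Clm := ⟨0, 1, true, [], [], 1, [], []⟩
def c3 : Clm := ⟨1, 0, true, [], [], 5, [([], 2, [])], []⟩
def c4 : Clm := ⟨1, 1, false, [], [14,1,14], 3, [([], 2, []), ([3,1,3,1,3,1,2,1,2,1,3,1,3,1,2,1,2,1,3,0,3,0,2,0,2,0,3,0,3,0,2,0,2,0,2], 2, [14,1,14])], []⟩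
def c5 : Clm := ⟨1, 1, false, [], [1,13,1,14,12,14,1,13,14,1,14,1,13,1,12], 3, [([], 2, []), ([3,1,3,1,3,1,2,1,3,1,3,1,2,1,2,0,2,0,3,0,3,0,2,0,3,0,2], 2, [1,13,1,14,12,14,1,13,14,1,14,1,13,1,12])], []⟩
def c6 : Clm := ⟨1, 1, false, [], [1,12,14,13,1,14,12,1,12,14,13,1,14,13,14], 3, [([], 2, []), ([3,1,3,1,3,1,2,1,3,1,2,1,3,1,3,1,3,1,2,0,2,0,2,0,3,0,2,0,3,0,2,0,2,0,2], 2, [1,12,14,13,1,14,12,1,12,14,13,1,14,13,14])], []⟩
def c7 : Clm := ⟨1, 1, false, [], [13,1,14,1,14,13,1,12,1,14,12,14,1], 3, [([], 2, []), ([3,1,2,1,3,1,2,1,3,1,3,1,3,1,2,1,3,1,3,0,3,0,2,0,3,0,3,0,3,0,3,0,3,0,2], 2, [13,1,14,1,14,13,1,12,1,14,12,14,1])], []⟩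
def c8 : Clm := ⟨1, 1, true, [5], [14,4,4,1], 9, [([], 2, []), ([3,0,2,0,3,0,3,0,2,0,2,0,2,0,2,0,2,0,3,0,2], 3, [13,1,14,12,1,14,13,1,12,1,14,1,14,1,12])], []⟩
def c9 : Clm := ⟨1, 1, true, [14,4,4,1], [5], 5, [([], 8, [])], []⟩
def c10 : Clm := ⟨1, 2, true, [3], [], 1, [], []⟩
def c11 : Clm := ⟨2, 1, true, [], [3], 5, [([], 10, [])], []⟩
def c12 : Clm := ⟨2, 2, false, [], [1,12,1,14,1,12,1,14,1,14,12,1,14,13,1,13], 3, [([], 10, []), ([11,13,9,11,12,10], 10, [1,12,1,14,1,12,1,14,1,14,12,1,14,13,1,13])], []⟩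
def c13 : Clm := ⟨2, 2, false, [], [1,12,1,14,1,14,12,14,1], 3, [([], 10, []), ([11,14,11,15,8], 10, [1,12,1,14,1,14,12,14,1])], []⟩
def c14 : Clm := ⟨2, 2, false, [], [12,1,14,1,12,14,1,14,1,13,14,1,14,12], 3, [([], 10, []), ([11,11,9,12,11], 10, [12,1,14,1,12,14,1,14,1,13,14,1,14,12])], []⟩
def c15 : Clm := ⟨2, 2, false, [], [1,12,1,13,14,13,1,14,13,14,12,1], 3, [([], 10, []), ([14,14,9,15,15], 10, [1,12,1,13,14,13,1,14,13,14,12,1])], []⟩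
def c16 : Clm := ⟨2, 2, false, [], [13,1,14,13,1,12,1,14,1,14,1,14], 3, [([], 10, []), ([10,14,14,11,14,12], 10, [13,1,14,13,1,12,1,14,1,14,1,14])], []⟩
def c17 : Clm := ⟨2, 2, true, [5], [13,14,13,1,14,12,14,1,14,1,13,1,4,4,1], 9, [([], 10, []), ([14,12,11,15], 11, [1,13,14,12,1,12,1,12,1,14,1,14,1,13])], []⟩
def c18 : Clm := ⟨2, 1, true, [14,1,12,5], [12,1,14,1,12,14,12,1,14,6,5,3,13], 9, [([], 10, [14,1,12]), ([10,10,10], 9, [12,14,13,1,13,14,13,1,13,1,14,13])], []⟩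
def c19 : Clm := ⟨1, 2, true, [12,1,14,1,12,14,12,1,14,6,5,3,13], [14,1,12,5], 5, [([], 18, [])], []⟩
def c20 : Clm := ⟨2, 2, false, [14,1,12,5], [14,1,14,12,1,14,1,14,13,14,1,12,2,1,13,4], 3, [([], 19, []), ([14,11,14], 10, [14,13,14,1,14,13,1,12,1,14,13,14,12])], []⟩
def c21 : Clm := ⟨1, 3, true, [9], [], 1, [], []⟩
def c22 : Clm := ⟨3, 1, true, [], [9], 5, [([], 21, [])], []⟩
def c23 : Clm := ⟨3, 3, false, [], [1,12,1,12,1,14,1,14,1,13,1,14,13,1,14], 3, [([], 21, []), ([13,9,11,11,11], 21, [1,12,1,12,1,14,1,14,1,13,1,14,13,1,14])], []⟩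
def c24 : Clm := ⟨3, 3, false, [], [12,1,14,1,14,1,14,1,12,1,12,1,12,14], 3, [([], 21, []), ([13,15,13,15,15,10,15,15], 21, [12,1,14,1,14,1,14,1,12,1,12,1,12,14])], []⟩
def c25 : Clm := ⟨3, 3, false, [], [14,13,1,14,13,1,13,14,1,14,1,12,14], 3, [([], 21, []), ([13,9,13,10,15,11,15,12], 21, [14,13,1,14,13,1,13,14,1,14,1,12,14])], []⟩
def c26 : Clm := ⟨3, 3, true, [5], [13,1,14,1,13,1,13,14,12,1,14,12,1,4,4,1], 9, [([], 21, []), ([8,15,8,14,8], 22, [14,12,1,13,1,12,14,1,14,12,14])], []⟩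
def c27 : Clm := ⟨3, 3, true, [12,5], [13,1,13,1,14,13,1,14,12,14,1,12,14,4,4,1], 9, [([], 21, [12]), ([11,12,15,10,8], 22, [13,1,14,1,12,1,14,1,13,14])], []⟩
def c28 : Clm := ⟨3, 3, true, [13,1,13,1,14,13,1,14,12,14,1,12,14,4,4,1], [12,5], 5, [([], 27, [])], []⟩
def c29 : Clm := ⟨3, 2, true, [13,5], [1,13,14,1,12,14,13,14,12,1,4,4,1], 9, [([], 21, [13]), ([12,10,15,8], 11, [1,12,14,1,14,1,12,1,12,1,14,13,1,14,13,1])], []⟩
def c30 : Clm := ⟨2, 3, true, [1,13,14,1,12,14,13,14,12,1,4,4,1], [13,5], 5, [([], 29, [])], []⟩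
def c31 : Clm := ⟨3, 3, false, [13,5], [14,1,12,1,13,14,12,1,12,14,1,7,4], 3, [([], 30, []), ([29,27,40,29,30,32,28], 30, [12,14,12,1,13,14,12,14,1,12,1,12,14])], []⟩
def c32 : Clm := ⟨3, 3, true, [1,12,14,1,13,14,12,1,12,1,12,14,13,1,13,5,9,5], [1,14,1,13,1,12,14,13,14,1,12,14,12,1,4,8,13], 11, [([48,46], 28, [14,12,1,12,14,12,1,12,1,14]), ([62,48,46], 28, [12,14,12,1,14,12,14,1,14,1,13,1])], []⟩
def c33 : Clm := ⟨3, 3, false, [13,5,1,13], [13,1,13,1,12,14,12,1,14,13,1,5,12,10,5], 6, [([], 29, [1,13]), ([28,41,26,41], 30, [12,14,13,1,13,1,12,14,1,14,1,13,14,1]), ([46,62], 32, [1,14,12,14,1,12,14,13,1])], []⟩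
def c34 : Clm := ⟨3, 1, false, [13,1,14,1,13,1,13,14,12,1,14,12,1,4,4,1], [1,14,13,14,12,1,14,1,13,1,12,1,12,2,10,7], 3, [([], 26, []), ([48,51,66,62], 22, [14,1,12,14,1,14,13,1,14,1,13,1])], []⟩
def c35 : Clm := ⟨1, 2, true, [14,1,13,1,13,1,13,1,13,14,1,11,5,1], [1,13,14,1,12,14,13,14,12,1,4,4,1], 4, [([69], 29, [])], []⟩
def c36 : Clm := ⟨2, 2, false, [1,13,14,1,12,14,13,14,12,1,4,4,1], [12,1,14,1,14,1,13,14,12,14,1,6,4,14], 3, [([], 35, []), ([12,15,8,14], 10, [14,1,14,13,1,12,1,14,12,14,1,13,1])], []⟩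
def c37 : Clm := ⟨1, 1, true, [9], [1,14,13,14,12,1,14,1,13,1,12,1,12,2,10,7], 4, [([], 21, [])], [68]⟩

noncomputable def cl0 (y : ℕ) : Clm := (selA 8 y (selA 4 y (selA 2 y (selA 1 y c0 c1) (selA 3 y c2 c3)) (selA 6 y (selA 5 y c4 c5) (selA 7 y c6 c7))) (selA 12 y (selA 10 y (selA 9 y c8 c9) (selA 11 y c10 c11)) (selA 14 y (selA 13 y c12 c13) (selA 15 y c14 c15))))

noncomputable def cl1 (y : ℕ) : Clm := (selA 24 y (selA 20 y (selA 18 y (selA 17 y c16 c17) (selA 19 y c18 c19)) (selA 22 y (selA 21 y c20 c21) (selA 23 y c22 c23))) (selA 28 y (selA 26 y (selA 25 y c24 c25) (selA 27 y c26 c27)) (selA 30 y (selA 29 y c28 c29) (selA 31 y c30 c31))))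

noncomputable def cl2 (y : ℕ) : Clm := (selA 35 y (selA 33 y c32 (selA 34 y c33 c34)) (selA 36 y c35 (selA 37 y c36 c37)))

noncomputable def cl (y : ℕ) : Clm := (selA 16 y (cl0 y) (selA 32 y (cl1 y) (cl2 y)))

def gwL : List (List ℕ) := [[], [15], [15,3,15], [15,9,15]]

noncomputable def D : Dce where
  inv := 5125576088324644636236977019010041446656
  m := 15
  T := 15
  TI := 16
  KL := [1,12,13,14]
  ax := [[1], [2]]
  sg := [[], [1], [], [], [], [], [], [], [], [], [], [], [12], [13], [14]]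
  chk := fixB N.Q.img 15 N.Q.bs
  pats := [([], false), ([16,15], false), ([15], true), ([16], true), ([15,5,15,4,10,5,10,3,15,2,11,4,11], false), ([10,5,10,3,16,2,11,4,11,5,16,4], true), ([15,4,10,5,10,3,15,2,11,4,11,15,5], false), ([4,16,10,5,10,3,16,2,11,4,11,5], true), ([15,2,11,4,11,15,5,15,4,10,5,10,3], false), ([2,11,4,11,5,16,4,16,10,5,10,3], true)]
  gw := nthW gwL
  cl := cl


end Cfsg.H6.J4.D1
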